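import Groth.Agent.Lib.FibreDimAt6.Proper

/-!
# Fibre dimension: boundedness, closed maps, and the generic lower bound
-/

universe u

open CategoryTheory Limits AlgebraicGeometry TopologicalSpace
open scoped TensorProduct

noncomputable section

namespace GrothLib.FibreDim5

theorem exists_ringKrullDim_fiber_le (A B : Type u) [CommRing A] [CommRing B] [Algebra A B]
    [Algebra.FiniteType A B] :
    ∃ n : ℕ, ∀ p : PrimeSpectrum A, ringKrullDim (p.asIdeal.Fiber B) ≤ (n : WithBot ℕ∞) := by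
  obtain ⟨n, φ, hφ⟩ := Algebra.FiniteType.iff_quotient_mvPolynomial''.mp ‹Algebra.FiniteType A B›
  refine ⟨n, fun p => ?_⟩
  rw [← GrothLib.FibreDimAt6.dim_fiber_mvPolynomial (R := A) n p]
  refine ringKrullDim_le_of_surjective
    (Algebra.TensorProduct.map (AlgHom.id p.asIdeal.ResidueField p.asIdeal.ResidueField) φ).toRingHom ?_
  intro z
  induction z using TensorProduct.induction_on with
  | zero => exact ⟨0, map_zero _⟩
  | tmul a b =>
    obtain ⟨b', rfl⟩ := hφ b
    exact ⟨a ⊗ₜ b', by simp⟩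
  | add x y hx hy =>
    obtain ⟨x', hx'⟩ := hx
    obtain ⟨y', hy'⟩ := hy
    exact ⟨x' + y', by rw [map_add, hx', hy']⟩

theorem exists_dim_fiber_le_affine {X S : Scheme.{u}} (f : X ⟶ S) [IsAffine X] [IsAffine S]
    [LocallyOfFiniteType f] :
    ∃ n : ℕ, ∀ s, topologicalKrullDim ↥(f.fiber s) ≤ (n : WithBot ℕ∞) := by
  letI := f.appTop.hom.toAlgebra
  haveI : Algebra.FiniteType Γ(S, ⊤) Γ(X, ⊤) :=
    HasRingHomProperty.appTop @LocallyOfFiniteType f inferInstance
  obtain ⟨n, hn⟩ := exists_ringKrullDim_fiber_le Γ(S, ⊤) Γ(X, ⊤)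
  exact ⟨n, fun s => (GrothLib.FibreDim6.dim_fiber_affine f s).trans_le (hn _)⟩

theorem exists_dim_fiber_le {X Y : Scheme.{u}} [CompactSpace Y] (f : X ⟶ Y)
    [LocallyOfFiniteType f] [QuasiCompact f] :
    ∃ n : ℕ, ∀ y : Y, topologicalKrullDim ↥(f.fiber y) ≤ (n : WithBot ℕ∞) := by
  classical
  have hb : ∀ V : Y.affineOpens, ∃ n : ℕ, ∀ s : V.1.toScheme,
      topologicalKrullDim ↥(f.fiber (V.1.ι s)) ≤ (n : WithBot ℕ∞) := by
    intro V
    obtain ⟨ι, _, W, hWa, hW, hcov⟩ := GrothLib.FibreDim6.exists_finite_cover f V.2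
    haveI : IsAffine V.1.toScheme := V.2
    have : ∀ i, ∃ n : ℕ, ∀ s : V.1.toScheme,
        topologicalKrullDim ↥((f.resLE V.1 (W i) (hW i)).fiber s) ≤ (n : WithBot ℕ∞) := fun i => by
      haveI : IsAffine (W i).toScheme := hWa i
      exact exists_dim_fiber_le_affine _
    choose n hn using this
    letI := Fintype.ofFinite ι
    refine ⟨Finset.univ.sup n, fun s => ?_⟩
    rw [GrothLib.FibreDim6.dim_fiber_eq_iSup f V.1 W hW hcov s]
    exact iSup_le fun i => (hn i s).trans (by exact_mod_cast Finset.le_sup (Finset.mem_univ i))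
  choose n hn using hb
  obtain ⟨t, ht⟩ := isCompact_univ.elim_finite_subcover (fun V : Y.affineOpens => (V.1 : Set Y))
    (fun V => V.1.2) (fun y _ => by
      obtain ⟨_, ⟨V, hV, rfl⟩, hy, -⟩ := Y.isBasis_affineOpens.exists_subset_of_mem_open (Set.mem_univ y) isOpen_univ
      exact Set.mem_iUnion.mpr ⟨⟨V, hV⟩, hy⟩)
  refine ⟨t.sup n, fun y => ?_⟩
  obtain ⟨V, hV, hy⟩ := Set.mem_iUnion₂.mp (ht (Set.mem_univ y))
  exact (hn V ⟨y, hy⟩).trans (by exact_mod_cast Finset.le_sup hV)

theorem not_le_natCast_iff (a : WithBot ℕ∞) (m : ℕ) :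
    a ≤ (m : WithBot ℕ∞) ↔ ¬ ((m + 1 : ℕ) : WithBot ℕ∞) ≤ a := by
  induction a using WithBot.recBotCoe with
  | bot =>
    refine iff_of_true bot_le fun h => ?_
    exact WithBot.natCast_ne_bot _ (le_bot_iff.mp h)
  | coe a =>
    rw [← WithBot.coe_natCast, ← WithBot.coe_natCast, WithBot.coe_le_coe, WithBot.coe_le_coe, not_le,
      Nat.cast_succ]
    exact (ENat.lt_add_one_iff (ENat.natCast_ne_top m)).symm

theorem isClosed_le_dim_fiber {X Y : Scheme.{u}} (f : X ⟶ Y) [LocallyOfFiniteType f]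
    (hf : IsClosedMap f.base) (n : ℕ) :
    IsClosed {y : Y | (n : WithBot ℕ∞) ≤ topologicalKrullDim ↥(f.fiber y)} := by
  cases n with
  | zero =>
    have : {y : Y | ((0 : ℕ) : WithBot ℕ∞) ≤ topologicalKrullDim ↥(f.fiber y)} = Set.range f := by
      ext y
      rw [Set.mem_setOf_eq, topologicalKrullDim, Nat.cast_zero, Order.krullDim_nonneg_iff]
      constructor
      · rintro ⟨Z⟩
        obtain ⟨z, -⟩ := Z.isIrreducible.nonempty
        exact ⟨f.fiberι y z, (f.range_fiberι y).subset ⟨z, rfl⟩⟩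
      · rintro ⟨x, rfl⟩
        exact ⟨closure {f.asFiber x}, isIrreducible_singleton.closure, isClosed_closure⟩
    rw [this]
    exact hf.isClosed_range
  | succ m =>
    have : {y : Y | ((m + 1 : ℕ) : WithBot ℕ∞) ≤ topologicalKrullDim ↥(f.fiber y)} =
        f '' {x | FlatMor.fibreDimAt f x ≤ (m : WithBot ℕ∞)}ᶜ := by
      ext y
      rw [Set.mem_setOf_eq, ← not_not (a := _ ≤ _), ← not_le_natCast_iff,
        GrothLib.FibreDimAt6.dim_fiber_le_iff]
      constructor
      · intro h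
        obtain ⟨x, hx⟩ := not_forall.mp h
        obtain ⟨hxy, hx⟩ := Classical.not_imp.mp hx
        exact ⟨x, hx, hxy⟩
      · rintro ⟨x, hx, rfl⟩ h
        exact hx (h x rfl)
    rw [this]
    exact hf _ (GrothLib.FibreDimAt6.isOpen_fibreDimAt_le f m).isClosed_compl

theorem nonneg_fibreDimAt {X Y : Scheme.{u}} (f : X ⟶ Y) (x : X) : 0 ≤ FlatMor.fibreDimAt f x :=
  le_iInf fun U => Order.krullDim_nonneg_iff.mpr
    ⟨⟨closure {(⟨f.asFiber x, U.2⟩ : (U.1 : Set ↥(f.fiber (f x))))}, isIrreducible_singleton.closure,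
      isClosed_closure⟩⟩

theorem dim_fiber_generic_le {X Y : Scheme.{u}} [IrreducibleSpace X] [IrreducibleSpace Y]
    (f : X ⟶ Y) [LocallyOfFiniteType f] [IsDominant f] (x : X) :
    topologicalKrullDim ↥(f.fiber (genericPoint Y)) ≤ FlatMor.fibreDimAt f x := by
  let ξ := genericPoint X
  have hη : f ξ = genericPoint Y := by
    apply ((genericPoint_spec Y).eq ?_).symm
    have h1 := (genericPoint_spec X).image f.continuous
    rwa [Set.image_univ, f.denseRange.closure_range] at h1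
  rw [← hη]
  have hgen : IsGenericPoint (f.asFiber ξ) (Set.univ : Set ↥(f.fiber (f ξ))) := by
    refine Set.eq_univ_of_forall fun z => ?_
    rw [(f.fiberι (f ξ)).isEmbedding.closure_eq_preimage_closure_image, Set.image_singleton,
      Set.mem_preimage, f.fiberι_asFiber]
    exact (genericPoint_spec X).symm.subset trivial
  haveI : LocallyOfFiniteType (f.fiberToSpecResidueField (f ξ)) :=
    MorphismProperty.pullback_snd (P := @LocallyOfFiniteType) _ _ inferInstance
  obtain ⟨n, hn, hnU⟩ := GrothLib.Dim.exists_nat_dim_irreducible (K := ↑(Y.residueField (f ξ)))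
    (f.fiberToSpecResidueField (f ξ)) isClosed_univ hgen.isIrreducible
  have hξ : (n : WithBot ℕ∞) ≤ FlatMor.fibreDimAt f ξ := by
    refine le_iInf fun U => ?_
    rw [← hnU U.1 ⟨f.asFiber ξ, trivial, U.2⟩]
    exact le_of_eq (by rw [Set.univ_inter])
  rw [← IsHomeomorph.topologicalKrullDim_eq _ (Homeomorph.Set.univ _).isHomeomorph, hn]
  have key : ∀ m : ℕ, FlatMor.fibreDimAt f x ≤ (m : WithBot ℕ∞) → (n : WithBot ℕ∞) ≤ m := fun m hm =>
    hξ.trans ((genericPoint_specializes x).mem_open (GrothLib.FibreDimAt6.isOpen_fibreDimAt_le f m) hm)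
  have h0 := nonneg_fibreDimAt f x
  generalize FlatMor.fibreDimAt f x = a at key h0 ⊢
  induction a using WithBot.recBotCoe with
  | bot => simp at h0
  | coe a =>
    induction a using ENat.recTopCoe with
    | top => exact le_top
    | coe m => exact key m le_rfl

end GrothLib.FibreDim5
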