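import Groth.Agent.Lib.DimCut.FibreStalk
import Groth.Agent.Lib.CMBasics.DimIneq

/-!
# `dim O_{X,x} ≤ dim O_{Y,y} + dim O_{X_y,x}`
-/

universe u

open CategoryTheory Limits AlgebraicGeometry IsLocalRing

noncomputable section

namespace GrothLib.FibreDim5

theorem dim_stalk_le_add {X Y : Scheme.{u}} [IsLocallyNoetherian Y] (f : X ⟶ Y) [LocallyOfFiniteType f] (x : X) :
    ringKrullDim (X.presheaf.stalk x) ≤
      ringKrullDim (Y.presheaf.stalk (f x)) + ringKrullDim ((f.fiber (f x)).presheaf.stalk (f.asFiber x)) := by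
  haveI : IsLocallyNoetherian X := LocallyOfFiniteType.isLocallyNoetherian f
  letI : Algebra (Y.presheaf.stalk (f x)) (X.presheaf.stalk x) := (f.stalkMap x).hom.toAlgebra
  haveI : IsLocalHom (algebraMap (Y.presheaf.stalk (f x)) (X.presheaf.stalk x)) :=
    inferInstanceAs (IsLocalHom (f.stalkMap x).hom)
  obtain ⟨hsurj, hker⟩ := GrothLib.FibreFlat.fiberι_stalkMap' f (f x) (f.asFiber x) x (f.fiberι_asFiber x)
  rw [← ringKrullDim_eq_of_ringEquiv ((Ideal.quotEquivOfEq hker.symm).trans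
    (RingHom.quotientKerEquivOfSurjective hsurj))]
  exact GrothLib.CMBasics.ringKrullDim_le_add_fibre (Y.presheaf.stalk (f x)) (X.presheaf.stalk x)

end GrothLib.FibreDim5
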