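import Groth.Agent.Lib.Chev28.DimIrred
import Groth.Agent.Lib.AlgSp.FibreDimBC
import Groth.Agent.Lib.FibreDim5.Basic

/-!
# The fibre dimension at a point against the fibre dimension at the maximal points above it
-/

set_option autoImplicit false
set_option linter.all false

universe u

open CategoryTheory CategoryTheory.Limits AlgebraicGeometry TopologicalSpace

noncomputable section

namespace GrothLib.FibreDim5

variable {X Y : Scheme.{u}}

theorem one_le_dim_locQuot {x y : X} (h : x ⤳ y) (hne : x ≠ y) : (1 : WithBot ℕ∞) ≤ ringKrullDim (Cyc.LocQuot y x h) := by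
  obtain ⟨U, hU, hyU, -⟩ := exists_isAffineOpen_mem_and_subset (x := y) (U := ⊤) trivial
  rw [GrothLib.Altitude.ringKrullDim_locQuot_eq_height hU h hyU]
  let Px := (hU.primeIdealOf ⟨x, h.mem_open U.2 hyU⟩).asIdeal
  let Py := (hU.primeIdealOf ⟨y, hyU⟩).asIdeal
  have hle : Px ≤ Py := GrothLib.Altitude.primeIdealOf_mono hU h hyU
  haveI : (Py.map (Ideal.Quotient.mk Px)).IsPrime := Ideal.isPrime_map_quotientMk_of_isPrime hle
  have h0 : (Py.map (Ideal.Quotient.mk Px)).height ≠ 0 := by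
    rw [Ne, Ideal.height_eq_zero_iff, minimalPrimes_eq_minimals, Set.mem_setOf_eq, minimal_iff]
    rintro ⟨-, hmin⟩
    have h1 : Py.map (Ideal.Quotient.mk Px) = ⊥ := hmin (Ideal.bot_prime (α := Γ(X, U) ⧸ Px)) bot_le
    rw [Ideal.map_eq_bot_iff_le_ker, Ideal.mk_ker] at h1
    have heq := congrArg hU.fromSpec (PrimeSpectrum.ext (le_antisymm hle h1) :
      hU.primeIdealOf ⟨x, h.mem_open U.2 hyU⟩ = hU.primeIdealOf ⟨y, hyU⟩)
    rw [hU.fromSpec_primeIdealOf, hU.fromSpec_primeIdealOf] at heq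
    exact hne heq
  exact_mod_cast Order.one_le_iff_pos.2 (pos_iff_ne_zero.2 h0)

theorem fibreDimAt_bounds [IsLocallyNoetherian Y] (f : X ⟶ Y) [LocallyOfFiniteType f] (x : X) (d : ℕ)
    (hgen : ∀ ξ : X, ξ ⤳ x → (∀ z, z ⤳ ξ → z = ξ) → FlatMor.fibreDimAt f ξ = d) :
    (d : WithBot ℕ∞) ≤ FlatMor.fibreDimAt f x ∧ ∃ s c : ℕ, FlatMor.fibreDimAt f x = s ∧
      ringKrullDim (Y.presheaf.stalk (f x)) = c ∧ (s = d ∨ s + 1 ≤ d + c) ∧
      ((∀ ξ : X, ξ ⤳ x → (∀ z, z ⤳ ξ → z = ξ) → f ξ ≠ f x) → s + 1 ≤ d + c) := by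
  haveI := LocallyOfFiniteType.isLocallyNoetherian f
  obtain ⟨x₀, he, hsp, hmax, hdim⟩ := GrothLib.Equidim6.exists_fibre_maximal f x
  obtain ⟨s, hs, hs'⟩ := GrothLib.Equidim6.fibreDimAt_eq_resTrdeg f x₀ (fun z hz => hmax z (hz.trans he))
  obtain ⟨c, hc, -⟩ := GrothLib.Chev28.exists_nat_dim_stalk (f x)
  obtain ⟨ξ, hξ, hξmax, -⟩ := GrothLib.Chev28.exists_component_dim_stalk x₀
  have hξmax' : ∀ z, z ⤳ ξ → z = ξ := hξmax
  have hξd := hgen ξ (hξ.trans hsp) hξmax'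
  refine ⟨?_, s, c, hdim.trans hs', hc, ?_⟩
  · rw [← hξd]
    obtain ⟨n, -, hn⟩ := GrothLib.Equidim6.fibreDimAt_eq_resTrdeg f ξ (fun z _ hz => hξmax' z hz)
    rw [hn, hdim, hs']
    have := (hξ.mem_open (GrothLib.FibreDimAt6.isOpen_fibreDimAt_le f s) hs'.le :)
    exact hn.ge.trans this
  have key : ξ ≠ x₀ → s + 1 ≤ d + c := by
    intro hne
    obtain ⟨t, s', a, b, ht, hs2, ha, hb, hab, -⟩ := GrothLib.Altitude.dim_locQuot_add_trdeg f hξ
    obtain ⟨t', ht', ht''⟩ := GrothLib.Equidim6.fibreDimAt_eq_resTrdeg f ξ (fun z _ hz => hξmax' z hz)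
    have e1 : t' = t := by exact_mod_cast (ht'.symm.trans ht :)
    have e2 : s' = s := by exact_mod_cast (hs2.symm.trans hs :)
    have e3 : t' = d := by exact_mod_cast ht''.symm.trans hξd
    have hc' : ringKrullDim (Y.presheaf.stalk (f x₀)) = c := by rw [he]; exact hc
    have hbc := (GrothLib.Chev28.dim_locQuot_le_stalk _ b c hb hc').1
    have h1 := one_le_dim_locQuot hξ hne
    rw [ha] at h1
    have : 1 ≤ a := by exact_mod_cast h1
    omega
  refine ⟨?_, fun hne => key fun h => hne ξ (hξ.trans hsp) hξmax' (by rw [h, he])⟩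
  by_cases h : ξ = x₀
  · left
    rw [h, hs'] at hξd
    exact_mod_cast hξd
  · exact Or.inr (key h)

/-- Only the local ring at the image needs to be Noetherian. -/
theorem fibreDimAt_bounds_local (f : X ⟶ Y) [LocallyOfFiniteType f] (x : X)
    [IsNoetherianRing (Y.presheaf.stalk (f x))] (d : ℕ)
    (hgen : ∀ Z ∈ irreducibleComponents (X : Type u), x ∈ Z → ∀ η : X, IsGenericPoint η Z →
      FlatMor.fibreDimAt f η = d) :
    (d : WithBot ℕ∞) ≤ FlatMor.fibreDimAt f x ∧ ∃ s c : ℕ, FlatMor.fibreDimAt f x = s ∧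
      ringKrullDim (Y.presheaf.stalk (f x)) = c ∧ (s = d ∨ s + 1 ≤ d + c) ∧
      ((∀ Z ∈ irreducibleComponents (X : Type u), x ∈ Z → ∀ η : X, IsGenericPoint η Z → f η ≠ f x) →
        s + 1 ≤ d + c) := by
  let g := Y.fromSpecStalk (f x)
  haveI : Flat g := GrothLib.FEt21.flat_fromSpecStalk (f x)
  haveI : IsLocallyNoetherian (Spec (Y.presheaf.stalk (f x))) := inferInstance
  let f' := pullback.snd f g
  let p := pullback.fst f g
  haveI : LocallyOfFiniteType f' := MorphismProperty.pullback_snd f g inferInstance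
  let y₀ : ↥(Spec (Y.presheaf.stalk (f x))) := IsLocalRing.closedPoint _
  have hy₀ : g y₀ = f x := Scheme.fromSpecStalk_closedPoint
  obtain ⟨x', hx1, hx2⟩ := Scheme.Pullback.exists_preimage_pullback (f := f) (g := g) x y₀ hy₀.symm
  have hbc : ∀ z, FlatMor.fibreDimAt f' z = FlatMor.fibreDimAt f (p z) :=
    fun z => GrothLib.AlgSp.fibreDimAt_of_isPullback (IsPullback.of_hasPullback f g) z
  have hmax : ∀ ξ', ξ' ⤳ x' → (∀ z, z ⤳ ξ' → z = ξ') → closure {p ξ'} ∈ irreducibleComponents (X : Type u) ∧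
      x ∈ closure {p ξ'} := by
    intro ξ' hξ' hm
    refine ⟨GrothLib.Equidim6.closure_mem_components fun z hz => ?_, Eq.mp (congrArg (fun w => w ∈ closure ({p ξ'} : Set X)) hx1) (hξ'.map p.continuous).mem_closure⟩
    obtain ⟨z', hz', hz''⟩ := Flat.generalizingMap p hz
    rw [← hz'', hm z' hz']
  obtain ⟨h1, s, c, hs, hc, h2, h3⟩ := fibreDimAt_bounds f' x' d fun ξ' hξ' hm => by
    obtain ⟨hZ, hxZ⟩ := hmax ξ' hξ' hm
    rw [hbc]
    exact hgen _ hZ hxZ _ isGenericPoint_closure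
  rw [hbc, hx1] at h1 hs
  have hdimY : ringKrullDim ((Spec (Y.presheaf.stalk (f x))).presheaf.stalk (f' x')) =
      ringKrullDim (Y.presheaf.stalk (f x)) := by
    rw [show f' x' = y₀ from hx2]
    exact ringKrullDim_eq_of_ringEquiv (stalkClosedPointIso _).commRingCatIsoToRingEquiv
  rw [hdimY] at hc
  refine ⟨h1, s, c, hs, hc, h2, fun hne => h3 fun ξ' hξ' hm heq => ?_⟩
  obtain ⟨hZ, hxZ⟩ := hmax ξ' hξ' hm
  refine hne _ hZ hxZ _ isGenericPoint_closure ?_
  rw [← Scheme.Hom.comp_apply, pullback.condition, Scheme.Hom.comp_apply]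
  show g (f' ξ') = f x
  rw [heq, show f' x' = y₀ from hx2, hy₀]

end GrothLib.FibreDim5
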