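import Mathlib.AlgebraicGeometry.Morphisms.Proper
import Mathlib.AlgebraicGeometry.Morphisms.Immersion
import Mathlib.AlgebraicGeometry.IdealSheaf.Subscheme

/-!
# Factorisation as a proper morphism followed by an immersion
-/

universe u

open CategoryTheory Limits AlgebraicGeometry

noncomputable section

namespace GrothLib.ProperImm

variable {X Y : Scheme.{u}}

theorem isIso_ι_of_eq_top (U : X.Opens) (h : U = ⊤) : IsIso U.ι := by
  haveI : Epi U.ι.base := (TopCat.epi_iff_surjective _).mpr fun x => ⟨⟨x, h ▸ trivial⟩, rfl⟩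
  exact IsOpenImmersion.isIso U.ι

theorem exists_proper_immersion_iff (f : X ⟶ Y) :
    (∃ (Z : Scheme.{u}) (g : X ⟶ Z) (h : Z ⟶ Y), IsProper g ∧ IsImmersion h ∧ g ≫ h = f) ↔
      ∀ x : X, ∃ U : Y.Opens, f.base x ∈ U ∧ IsProper (f ∣_ U) := by
  constructor
  · rintro ⟨Z, g, h, hg, hh, rfl⟩ x
    refine ⟨h.coborderRange, ?_, ?_⟩
    · have := congrArg (fun k : Z ⟶ Y => k (g x)) h.liftCoborder_ι
      rw [show (g ≫ h).base x = h (g x) from rfl, ← this]
      exact (h.liftCoborder (g x)).2
    · have e : (g ≫ h) ⁻¹ᵁ h.coborderRange = ⊤ := by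
        ext y
        refine iff_of_true ?_ trivial
        show h (g y) ∈ h.coborderRange
        rw [show h (g y) = h.coborderRange.ι (h.liftCoborder (g y)) from
          (congrArg (fun k : Z ⟶ Y => k (g y)) h.liftCoborder_ι).symm]
        exact (h.liftCoborder (g y)).2
      haveI := isIso_ι_of_eq_top _ e
      have heq : (g ≫ h) ∣_ h.coborderRange =
          ((g ≫ h) ⁻¹ᵁ h.coborderRange).ι ≫ g ≫ h.liftCoborder := by
        rw [← cancel_mono h.coborderRange.ι, morphismRestrict_ι, Category.assoc, Category.assoc,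
          h.liftCoborder_ι]
      rw [heq]
      infer_instance
  · intro H
    choose U hxU hU using H
    let V : Y.Opens := ⨆ x, U x
    have hV : f ⁻¹ᵁ V = ⊤ := top_le_iff.mp fun x _ => TopologicalSpace.Opens.mem_iSup.mpr ⟨x, hxU x⟩
    haveI := isIso_ι_of_eq_top _ hV
    haveI : IsProper (f ∣_ V) := by
      refine IsZariskiLocalAtTarget.of_iSup_eq_top (P := @IsProper) (fun x => V.ι ⁻¹ᵁ U x) ?_ fun x => ?_
      · rw [← Scheme.Hom.preimage_iSup]
        exact top_le_iff.mp fun y _ => show V.ι y ∈ V from y.2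
      · refine ((MorphismProperty.arrow_mk_iso_iff @IsProper
          (morphismRestrictRestrict f V _ ≪≫ morphismRestrictEq f ?_)).mpr (hU x))
        rw [Scheme.Hom.image_preimage_eq_opensRange_inf, Scheme.Opens.opensRange_ι]
        exact inf_eq_right.mpr (le_iSup U x)
    let p : X ⟶ V.toScheme := inv (f ⁻¹ᵁ V).ι ≫ f ∣_ V
    haveI : IsProper p := inferInstanceAs (IsProper (inv (f ⁻¹ᵁ V).ι ≫ f ∣_ V))
    haveI : IsProper p.toImage := by
      haveI : IsProper (p.toImage ≫ p.imageι) := by rw [p.toImage_imageι]; infer_instance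
      exact IsProper.of_comp p.toImage p.imageι
    refine ⟨p.image, p.toImage, p.imageι ≫ V.ι, inferInstance, inferInstance, ?_⟩
    rw [← Category.assoc, p.toImage_imageι, Category.assoc, morphismRestrict_ι, IsIso.inv_hom_id_assoc]

end GrothLib.ProperImm
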